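import Cfsg.Agent.Lib.PGroups.UnitriangularFour
import Cfsg.Agent.Lib.Solvable.Gaschuetz

/-!
# The two elementary abelian subgroups of order sixteen in covers of the plane group over four elements
-/

set_option autoImplicit false

namespace Cfsg.Agent.Lib.PlaneCover

open Cfsg.Agent.Lib.PGroups.UniFour Matrix

universe v

variable {F : Type v} [Field F]

variable (F) in
/-- The special linear group in dimension three. -/
abbrev SL3 : Type v := Matrix.SpecialLinearGroup (Fin 3) F

variable (F) in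
/-- The projective special linear group in dimension three. -/
abbrev L3 : Type v := Matrix.ProjectiveSpecialLinearGroup (Fin 3) F

/-- The projection. -/
abbrev proj : SL3 F →* L3 F := QuotientGroup.mk' _

variable [CharP F 2]

theorem two_zero : (2 : F) = 0 := CharTwo.two_eq_zero

omit [CharP F 2] in
theorem coe_uni (p : F × F × F) : (uni p).1 = !![1, p.1, p.2.2; 0, 1, p.2.1; 0, 0, 1] := rfl

theorem uni_zero : uni ((0, 0, 0) : F × F × F) = 1 := by
  apply Subtype.ext
  ext i j
  fin_cases i <;> fin_cases j <;> simp [uni]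

theorem uni_inv (a b c : F) : (uni (a, b, c))⁻¹ = uni (a, b, c + a * b) := by
  refine inv_eq_of_mul_eq_one_right ?_
  rw [uni_mul, ← uni_zero]
  congr 1
  refine Prod.ext (CharTwo.add_self_eq_zero a) (Prod.ext (CharTwo.add_self_eq_zero b) ?_)
  show c + (c + a * b) + a * b = 0
  linear_combination (c + a * b) * (two_zero (F := F))

theorem uni_sq (a b c : F) : uni (a, b, c) * uni (a, b, c) = uni (0, 0, a * b) := by
  rw [uni_mul]
  congr 1
  refine Prod.ext (CharTwo.add_self_eq_zero a) (Prod.ext (CharTwo.add_self_eq_zero b) ?_)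
  show c + c + a * b = a * b
  rw [CharTwo.add_self_eq_zero, zero_add]

omit [CharP F 2] in
theorem uni_inj {p q : F × F × F} (h : proj (uni p) = proj (uni q)) : p = q := by
  obtain ⟨a, b, c⟩ := p
  obtain ⟨a', b', c'⟩ := q
  have h' : uni (a, b, c) * uni (a' - a, b' - b, c' - c - a * (b' - b)) = uni (a', b', c') := by
    rw [uni_mul]
    congr 1
    refine Prod.ext (by simp) (Prod.ext (by simp) ?_)
    show c + (c' - c - a * (b' - b)) + a * (b' - b) = c'
    ring
  have h1 : proj (uni (a' - a, b' - b, c' - c - a * (b' - b))) = 1 := by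
    rw [← h', map_mul] at h
    exact (left_eq_mul (a := proj (uni (a, b, c)))).mp h
  have h2 := uni_eq_of_center ((QuotientGroup.eq_one_iff _).mp h1)
  simp only [Prod.mk.injEq] at h2
  obtain ⟨ha, hb, hc⟩ := h2
  have ha' := sub_eq_zero.mp ha
  have hb' := sub_eq_zero.mp hb
  subst ha' hb'
  simp [sub_eq_zero] at hc
  simp [hc]

/-- Elements squaring to one with the same image are equal. -/
theorem eq_of_proj {x y : SL3 F} (hx : x * x = 1) (hy : y * y = 1) (h : proj x = proj y) : x = y := by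
  set z := x⁻¹ * y with hz
  have hzc : z ∈ Subgroup.center (SL3 F) := QuotientGroup.eq.mp h
  have hyx : y = x * z := by rw [hz, mul_inv_cancel_left]
  have hz2 : z * z = 1 := by
    rw [hyx] at hy
    calc z * z = (x * x) * (z * z) := by rw [hx, one_mul]
      _ = x * (x * z) * z := by simp only [mul_assoc]
      _ = x * (z * x) * z := by rw [Subgroup.mem_center_iff.mp hzc x]
      _ = 1 := by rw [← hy]; simp only [mul_assoc]
  obtain ⟨r, -, hr⟩ := Matrix.SpecialLinearGroup.mem_center_iff.mp hzc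
  have h00 := congrFun (congrFun (congrArg Subtype.val hz2) 0) 0
  simp only [Matrix.SpecialLinearGroup.coe_mul, ← hr, Matrix.SpecialLinearGroup.coe_one] at h00
  simp [Matrix.mul_apply, Fin.sum_univ_three] at h00
  have hr1 : r = 1 := by
    have : (r - 1) * (r - 1) = 0 := by linear_combination h00 - (r - 1) * (two_zero (F := F))
    exact sub_eq_zero.mp (mul_self_eq_zero.mp this)
  have hz1 : z = 1 := by
    apply Subtype.ext
    rw [← hr, hr1]
    simp
  rw [hyx, hz1, mul_one]

variable (F) in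
/-- The image of the unitriangular group. -/
def U0 : Subgroup (L3 F) where
  carrier := {x | ∃ p, proj (uni p) = x}
  one_mem' := ⟨(0, 0, 0), by rw [uni_zero, map_one]⟩
  mul_mem' := by
    rintro _ _ ⟨p, rfl⟩ ⟨q, rfl⟩
    exact ⟨_, by rw [← map_mul, uni_mul]⟩
  inv_mem' := by
    rintro _ ⟨⟨a, b, c⟩, rfl⟩
    exact ⟨_, by rw [← map_inv, uni_inv]⟩

variable (F) in
/-- The column subgroup. -/
def A0 : Subgroup (L3 F) where
  carrier := {x | ∃ b c, proj (uni (0, b, c)) = x}
  one_mem' := ⟨0, 0, by rw [uni_zero, map_one]⟩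
  mul_mem' := by
    rintro _ _ ⟨b, c, rfl⟩ ⟨b', c', rfl⟩
    exact ⟨b + b', c + c', by rw [← map_mul, uni_mul]; simp⟩
  inv_mem' := by
    rintro _ ⟨b, c, rfl⟩
    exact ⟨b, c, by rw [← map_inv, uni_inv]; simp⟩

variable (F) in
/-- The row subgroup. -/
def A1 : Subgroup (L3 F) where
  carrier := {x | ∃ a c, proj (uni (a, 0, c)) = x}
  one_mem' := ⟨0, 0, by rw [uni_zero, map_one]⟩
  mul_mem' := by
    rintro _ _ ⟨a, c, rfl⟩ ⟨a', c', rfl⟩
    exact ⟨a + a', c + c', by rw [← map_mul, uni_mul]; simp⟩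
  inv_mem' := by
    rintro _ ⟨a, c, rfl⟩
    exact ⟨a, c, by rw [← map_inv, uni_inv]; simp⟩

theorem A0_le : A0 F ≤ U0 F := by rintro _ ⟨b, c, rfl⟩; exact ⟨_, rfl⟩

theorem A1_le : A1 F ≤ U0 F := by rintro _ ⟨a, c, rfl⟩; exact ⟨_, rfl⟩

theorem sup_eq_U0 : A0 F ⊔ A1 F = U0 F := by
  refine le_antisymm (sup_le A0_le A1_le) ?_
  rintro _ ⟨⟨a, b, c⟩, rfl⟩
  have : uni (a, b, c) = uni (0, b, c) * uni (a, 0, 0) := by rw [uni_mul]; simp
  rw [this, map_mul]
  exact mul_mem (Subgroup.mem_sup_left ⟨b, c, rfl⟩) (Subgroup.mem_sup_right ⟨a, 0, rfl⟩)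

theorem mem_inf_of_comm {x : L3 F} (hx : x ∈ U0 F) (h0 : ∀ y ∈ A0 F, y * x = x * y)
    (h1 : ∀ y ∈ A1 F, y * x = x * y) : x ∈ A0 F ∧ x ∈ A1 F := by
  obtain ⟨⟨a, b, c⟩, rfl⟩ := hx
  have e1 := h0 _ ⟨1, 0, rfl⟩
  have e2 := h1 _ ⟨1, 0, rfl⟩
  rw [← map_mul, ← map_mul, uni_mul, uni_mul] at e1 e2
  have e1' := uni_inj e1
  have e2' := uni_inj e2
  simp [Prod.ext_iff] at e1' e2'
  obtain rfl : a = 0 := e1'.2
  obtain rfl : b = 0 := e2'.2
  exact ⟨⟨0, c, rfl⟩, 0, c, rfl⟩

theorem card_A0 : Nat.card (A0 F) = Nat.card F * Nat.card F := by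
  rw [← Nat.card_prod]
  refine Nat.card_congr (Equiv.ofBijective
    (fun p : F × F => (⟨proj (uni (0, p.1, p.2)), p.1, p.2, rfl⟩ : A0 F)) ⟨?_, ?_⟩).symm
  · intro p q h
    have := uni_inj (congrArg Subtype.val h)
    simpa [Prod.ext_iff] using this
  · rintro ⟨_, b, c, rfl⟩; exact ⟨(b, c), rfl⟩

theorem card_A1 : Nat.card (A1 F) = Nat.card F * Nat.card F := by
  rw [← Nat.card_prod]
  refine Nat.card_congr (Equiv.ofBijective
    (fun p : F × F => (⟨proj (uni (p.1, 0, p.2)), p.1, p.2, rfl⟩ : A1 F)) ⟨?_, ?_⟩).symm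
  · intro p q h
    have := uni_inj (congrArg Subtype.val h)
    simpa [Prod.ext_iff] using this
  · rintro ⟨_, b, c, rfl⟩; exact ⟨(b, c), rfl⟩

theorem card_U0 : Nat.card (U0 F) = Nat.card F * (Nat.card F * Nat.card F) := by
  rw [← Nat.card_prod, ← Nat.card_prod]
  refine Nat.card_congr (Equiv.ofBijective
    (fun p : F × F × F => (⟨proj (uni p), p, rfl⟩ : U0 F)) ⟨?_, ?_⟩).symm
  · exact fun p q h => uni_inj (congrArg Subtype.val h)
  · rintro ⟨_, p, rfl⟩; exact ⟨p, rfl⟩

theorem eq_A0_or_A1 [Finite F] {E : Subgroup (L3 F)} (hE : E ≤ U0 F) (hsq : ∀ x ∈ E, x * x = 1)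
    (hcard : Nat.card E = Nat.card F * Nat.card F) : E = A0 F ∨ E = A1 F := by
  have key : ∀ a b c, proj (uni (a, b, c)) ∈ E → a = 0 ∨ b = 0 := by
    intro a b c h
    have h1 := hsq _ h
    rw [← map_mul, uni_sq, ← map_one (proj (F := F)), ← uni_zero] at h1
    have := uni_inj h1
    simpa [Prod.ext_iff] using this
  by_cases h : ∀ a b c, proj (uni (a, b, c)) ∈ E → a = 0
  · refine Or.inl (Subgroup.eq_of_le_of_card_ge ?_ (by rw [hcard, card_A0]))
    intro x hx
    obtain ⟨⟨a, b, c⟩, rfl⟩ := hE hx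
    obtain rfl := h a b c hx
    exact ⟨b, c, rfl⟩
  · push Not at h
    obtain ⟨a', b', c', h', ha'⟩ := h
    obtain rfl : b' = 0 := (key _ _ _ h').resolve_left ha'
    refine Or.inr (Subgroup.eq_of_le_of_card_ge ?_ (by rw [hcard, card_A1]))
    intro x hx
    obtain ⟨⟨a, b, c⟩, rfl⟩ := hE hx
    have h2 := mul_mem h' hx
    rw [← map_mul, uni_mul] at h2
    by_cases hb : b = 0
    · subst hb; exact ⟨a, c, rfl⟩
    · obtain rfl : a = 0 := (key _ _ _ hx).resolve_right hb
      rcases key _ _ _ h2 with h3 | h3 <;> simp at h3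
      · exact absurd h3 ha'
      · exact absurd h3 hb

variable (F) in
/-- The stabiliser of the plane. -/
def P0 : Subgroup (SL3 F) where
  carrier := {g | g 2 0 = 0 ∧ g 2 1 = 0}
  one_mem' := ⟨by simp, by simp⟩
  mul_mem' := by
    rintro g h ⟨a, b⟩ ⟨c, d⟩
    simp [Matrix.SpecialLinearGroup.coe_mul, Matrix.mul_apply, Fin.sum_univ_three, a, b, c, d]
  inv_mem' := by
    rintro g ⟨a, b⟩
    simp [Matrix.SpecialLinearGroup.coe_inv, Matrix.adjugate_fin_three, a, b]

omit [CharP F 2] in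
theorem center_le_P0 : Subgroup.center (SL3 F) ≤ P0 F := by
  intro g hg
  obtain ⟨r, -, hr⟩ := Matrix.SpecialLinearGroup.mem_center_iff.mp hg
  constructor <;> · rw [← hr]; simp

theorem proj_mem_normalizer_iff [Finite F] (g : SL3 F) :
    proj g ∈ Subgroup.normalizer (A0 F : Set (L3 F)) ↔ g ∈ P0 F := by
  constructor
  · intro hg
    have key : ∀ b c, ∃ b' c', g * uni (0, b, c) = uni (0, b', c') * g := by
      intro b c
      obtain ⟨b', c', h⟩ := (Subgroup.mem_normalizer_iff.mp hg _).mp ⟨b, c, rfl⟩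
      refine ⟨b', c', ?_⟩
      have := eq_of_proj (x := uni (0, b', c')) (y := g * uni (0, b, c) * g⁻¹)
        (by rw [uni_sq, zero_mul, uni_zero]) (by
          rw [show g * uni (0, b, c) * g⁻¹ * (g * uni (0, b, c) * g⁻¹) =
            g * (uni (0, b, c) * uni (0, b, c)) * g⁻¹ by group, uni_sq, zero_mul, uni_zero]
          group) (by rw [h, map_mul, map_mul, map_inv])
      rw [this, inv_mul_cancel_right]
    obtain ⟨b₁, c₁, h₁⟩ := key 1 0
    obtain ⟨b₂, c₂, h₂⟩ := key 0 1
    have e1 := congrFun (congrFun (congrArg Subtype.val h₁) 2) 2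
    have e2 := congrFun (congrFun (congrArg Subtype.val h₂) 2) 2
    rw [Matrix.SpecialLinearGroup.coe_mul, Matrix.SpecialLinearGroup.coe_mul] at e1 e2
    simp [coe_uni, Matrix.mul_apply, Fin.sum_univ_three] at e1 e2
    exact ⟨e2, e1⟩
  · rintro ⟨h20, h21⟩
    have hd : g 2 2 ≠ 0 := by
      intro h22
      have hdet := g.2
      rw [Matrix.det_fin_three] at hdet
      simp [h20, h21, h22] at hdet
    have hle : (A0 F).map (MulAut.conj (proj g)).toMonoidHom ≤ A0 F := by
      rintro _ ⟨_, ⟨b, c, rfl⟩, rfl⟩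
      refine ⟨(g 1 0 * c + g 1 1 * b) / g 2 2, (g 0 0 * c + g 0 1 * b) / g 2 2, ?_⟩
      show proj _ = proj g * proj (uni (0, b, c)) * (proj g)⁻¹
      rw [← map_inv, ← map_mul, ← map_mul]
      congr 1
      rw [eq_mul_inv_iff_mul_eq]
      apply Subtype.ext
      rw [Matrix.SpecialLinearGroup.coe_mul, Matrix.SpecialLinearGroup.coe_mul]
      ext i j
      fin_cases i <;> fin_cases j <;>
        simp [coe_uni, Matrix.mul_apply, Fin.sum_univ_three, h20, h21] <;>
        field_simp <;> ring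
    rw [Subgroup.mem_normalizer_iff_map_conj_eq]
    refine Subgroup.eq_of_le_of_card_ge hle (le_of_eq ?_)
    exact Nat.card_congr ((A0 F).equivMapOfInjective _ (MulAut.conj (proj g)).injective).toEquiv

theorem exists_conj_A0 [Finite F] {b c : F} (h : ¬ (b = 0 ∧ c = 0)) :
    ∃ n ∈ Subgroup.normalizer (A0 F : Set (L3 F)),
      n * proj (uni (0, 1, 0)) * n⁻¹ = proj (uni (0, b, c)) := by
  obtain ⟨α, β, hαβ⟩ : ∃ α β : F, α * b - c * β = 1 := by
    by_cases hb : b = 0
    · exact ⟨0, -c⁻¹, by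
        have hc : c ≠ 0 := fun e => h ⟨hb, e⟩
        field_simp; ring⟩
    · exact ⟨b⁻¹, 0, by field_simp; ring⟩
  let g : SL3 F := ⟨!![α, c, 0; β, b, 0; 0, 0, 1], by
    rw [Matrix.det_fin_three]; simp; linear_combination hαβ⟩
  refine ⟨proj g, (proj_mem_normalizer_iff g).mpr ⟨by simp [g], by simp [g]⟩, ?_⟩
  rw [← map_inv, ← map_mul, ← map_mul]
  congr 1
  rw [mul_inv_eq_iff_eq_mul]
  apply Subtype.ext
  rw [Matrix.SpecialLinearGroup.coe_mul, Matrix.SpecialLinearGroup.coe_mul,
    show g.1 = !![α, c, 0; β, b, 0; 0, 0, 1] from rfl]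
  ext i j
  fin_cases i <;> fin_cases j <;>
    simp [coe_uni, Matrix.mul_apply, Fin.sum_univ_three]

omit [CharP F 2] in
theorem pow_four [Fintype F] (hF : Fintype.card F = 4) (x : F) : x ^ 4 = x := by
  have := FiniteField.pow_card x
  rwa [hF] at this

/-- The action of the normaliser on the plane, scaled into the special linear group. -/
def blockHom [Fintype F] (hF : Fintype.card F = 4) : P0 F →* Matrix.SpecialLinearGroup (Fin 2) F where
  toFun g := ⟨(g.1 2 2) ^ 2 • !![g.1 0 0, g.1 0 1; g.1 1 0, g.1 1 1], by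
    obtain ⟨g, h20, h21⟩ := g
    have hdet := g.2
    rw [Matrix.det_fin_three] at hdet
    simp only [h20, h21, mul_zero, add_zero, sub_zero] at hdet
    simp only [Matrix.det_smul, Fintype.card_fin, Matrix.det_fin_two_of]
    linear_combination hdet + (g.1 0 0 * g.1 1 1 - g.1 0 1 * g.1 1 0) * pow_four hF (g.1 2 2)⟩
  map_one' := by
    apply Subtype.ext
    ext i j
    fin_cases i <;> fin_cases j <;> simp
  map_mul' := by
    rintro ⟨g, g20, g21⟩ ⟨h, h20, h21⟩
    apply Subtype.ext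
    show (g * h).1 2 2 ^ 2 • !![(g * h).1 0 0, (g * h).1 0 1; (g * h).1 1 0, (g * h).1 1 1] =
      (g.1 2 2 ^ 2 • !![g.1 0 0, g.1 0 1; g.1 1 0, g.1 1 1]) *
        (h.1 2 2 ^ 2 • !![h.1 0 0, h.1 0 1; h.1 1 0, h.1 1 1])
    ext i j
    fin_cases i <;> fin_cases j <;>
      simp [Matrix.SpecialLinearGroup.coe_mul, Matrix.mul_apply, Fin.sum_univ_three, Fin.sum_univ_two,
        g20, g21, h20, h21] <;> ring

omit [CharP F 2] in
theorem coe_blockHom [Fintype F] (hF : Fintype.card F = 4) (g : P0 F) :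
    (blockHom hF g).1 = (g.1 2 2) ^ 2 • !![g.1 0 0, g.1 0 1; g.1 1 0, g.1 1 1] := rfl

omit [CharP F 2] in
theorem blockHom_surjective [Fintype F] (hF : Fintype.card F = 4) :
    Function.Surjective (blockHom hF) := by
  intro h
  refine ⟨⟨⟨!![h 0 0, h 0 1, 0; h 1 0, h 1 1, 0; 0, 0, 1], ?_⟩, by simp, by simp⟩, ?_⟩
  · rw [Matrix.det_fin_three]
    have hdet := h.2
    rw [Matrix.det_fin_two] at hdet
    simp
    linear_combination hdet
  · apply Subtype.ext
    rw [coe_blockHom]
    ext i j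
    fin_cases i <;> fin_cases j <;> simp

/-- The induced map on the normaliser. -/
theorem exists_normalizerHom [Fintype F] (hF : Fintype.card F = 4) :
    ∃ φ : ↥(Subgroup.normalizer (A0 F : Set (L3 F))) →* Matrix.ProjectiveSpecialLinearGroup (Fin 2) F,
      Function.Surjective φ ∧ ∀ x, φ x = 1 ↔ (x : L3 F) ∈ A0 F := by
  let N := Subgroup.normalizer (A0 F : Set (L3 F))
  let ψ : P0 F →* N := (proj.comp (P0 F).subtype).codRestrict N
    fun g => (proj_mem_normalizer_iff g.1).mpr g.2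
  have hψ : Function.Surjective ψ := by
    rintro ⟨x, hx⟩
    obtain ⟨g, rfl⟩ := QuotientGroup.mk'_surjective _ x
    exact ⟨⟨g, (proj_mem_normalizer_iff g).mp hx⟩, rfl⟩
  let B : P0 F →* Matrix.ProjectiveSpecialLinearGroup (Fin 2) F := (QuotientGroup.mk' _).comp (blockHom hF)
  have hB : ∀ g : P0 F, B g = 1 ↔ proj g.1 ∈ A0 F := by
    intro g
    constructor
    · intro hg
      obtain ⟨r, hr1, hr⟩ := Matrix.SpecialLinearGroup.mem_center_iff.mp ((QuotientGroup.eq_one_iff _).mp hg)
      have hr' : r = 1 := by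
        simp only [Fintype.card_fin] at hr1
        have : (r - 1) * (r - 1) = 0 := by linear_combination hr1 - (r - 1) * (two_zero (F := F))
        exact sub_eq_zero.mp (mul_self_eq_zero.mp this)
      subst hr'
      obtain ⟨g, g20, g21⟩ := g
      have hd : g 2 2 ≠ 0 := by
        intro h22
        have hdet := g.2
        rw [Matrix.det_fin_three] at hdet
        simp [g20, g21, h22] at hdet
      have h3 : (g 2 2) ^ 3 = 1 := by
        have := FiniteField.pow_card_sub_one_eq_one _ hd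
        rwa [hF] at this
      have e00 := congrFun (congrFun hr 0) 0
      have e01 := congrFun (congrFun hr 0) 1
      have e10 := congrFun (congrFun hr 1) 0
      have e11 := congrFun (congrFun hr 1) 1
      rw [coe_blockHom] at e00 e01 e10 e11
      simp at e00 e01 e10 e11
      have a00 : g 0 0 = g 2 2 := by linear_combination -(g 2 2) * e00 - g 0 0 * h3
      have a11 : g 1 1 = g 2 2 := by linear_combination -(g 2 2) * e11 - g 1 1 * h3
      have a01 : g 0 1 = 0 := e01.resolve_left hd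
      have a10 : g 1 0 = 0 := e10.resolve_left hd
      refine ⟨g 1 2 / g 2 2, g 0 2 / g 2 2, ?_⟩
      show proj _ = proj g
      let z : SL3 F := ⟨Matrix.scalar (Fin 3) (g 2 2), by simp [h3]⟩
      have hz : z ∈ Subgroup.center (SL3 F) :=
        Matrix.SpecialLinearGroup.mem_center_iff.mpr ⟨g 2 2, by simp [h3], rfl⟩
      have hg : g = uni (0, g 1 2 / g 2 2, g 0 2 / g 2 2) * z := by
        apply Subtype.ext
        rw [Matrix.SpecialLinearGroup.coe_mul, show z.1 = Matrix.scalar (Fin 3) (g 2 2) from rfl]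
        ext i j
        fin_cases i <;> fin_cases j <;>
          simp [coe_uni, Matrix.mul_apply, Fin.sum_univ_three, g20, g21,
            a00, a11, a01, a10, hd]
      conv_rhs => rw [hg]
      rw [map_mul, show proj z = 1 from (QuotientGroup.eq_one_iff _).mpr hz, mul_one]
    · rintro ⟨b, c, h⟩
      have hz : (uni (0, b, c))⁻¹ * g.1 ∈ Subgroup.center (SL3 F) := QuotientGroup.eq.mp h
      obtain ⟨r, hr1, hr⟩ := Matrix.SpecialLinearGroup.mem_center_iff.mp hz
      simp only [Fintype.card_fin] at hr1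
      have hg : g.1.1 = (uni (0, b, c)).1 * Matrix.scalar (Fin 3) r := by
        rw [hr, ← Matrix.SpecialLinearGroup.coe_mul, mul_inv_cancel_left]
      have h1 : blockHom hF g = 1 := by
        apply Subtype.ext
        rw [coe_blockHom]
        ext i j
        fin_cases i <;> fin_cases j <;>
          simp [hg, coe_uni, Matrix.mul_apply, Fin.sum_univ_three] <;>
          linear_combination hr1
      show (QuotientGroup.mk' _) (blockHom hF g) = 1
      rw [h1, map_one]
  have hker : ψ.ker ≤ B.ker := by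
    intro g hg
    refine (hB g).mpr ?_
    have : proj g.1 = 1 := congrArg Subtype.val hg
    rw [this]; exact one_mem _
  refine ⟨ψ.liftOfSurjective hψ ⟨B, hker⟩, ?_, ?_⟩
  · intro y
    obtain ⟨h, rfl⟩ := QuotientGroup.mk'_surjective _ y
    obtain ⟨g, rfl⟩ := blockHom_surjective hF h
    exact ⟨ψ g, MonoidHom.liftOfRightInverse_comp_apply _ _ _ _ g⟩
  · intro x
    obtain ⟨g, rfl⟩ := hψ x
    rw [show (ψ.liftOfSurjective hψ ⟨B, hker⟩) (ψ g) = B g from
      MonoidHom.liftOfRightInverse_comp_apply _ _ _ _ g]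
    exact hB g

/-- The graph homomorphism on matrices. -/
def graphHom : SL3 F →* SL3 F where
  toFun g := ⟨((g⁻¹ : SL3 F).1.transpose).submatrix Fin.revPerm Fin.revPerm, by
    rw [Matrix.det_submatrix_equiv_self, Matrix.det_transpose]; exact (g⁻¹ : SL3 F).2⟩
  map_one' := by
    apply Subtype.ext
    simp
  map_mul' g h := by
    apply Subtype.ext
    show ((g * h)⁻¹ : SL3 F).1.transpose.submatrix Fin.revPerm Fin.revPerm =
      (g⁻¹ : SL3 F).1.transpose.submatrix Fin.revPerm Fin.revPerm *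
        (h⁻¹ : SL3 F).1.transpose.submatrix Fin.revPerm Fin.revPerm
    rw [_root_.mul_inv_rev, Matrix.SpecialLinearGroup.coe_mul, Matrix.transpose_mul,
      Matrix.submatrix_mul_equiv]

omit [CharP F 2] in
theorem graphHom_graphHom (g : SL3 F) : graphHom (graphHom g) = g := by
  apply Subtype.ext
  show ((graphHom g)⁻¹).1.transpose.submatrix Fin.revPerm Fin.revPerm = g.1
  rw [← map_inv]
  show (((g⁻¹)⁻¹ : SL3 F).1.transpose.submatrix Fin.revPerm Fin.revPerm).transpose.submatrix
    Fin.revPerm Fin.revPerm = g.1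
  rw [inv_inv]
  ext i j
  simp

/-- The graph automorphism on matrices. -/
def graphSL : SL3 F ≃* SL3 F :=
  { graphHom with
    invFun := graphHom
    left_inv := graphHom_graphHom
    right_inv := graphHom_graphHom }

/-- The graph automorphism. -/
noncomputable def graph : L3 F ≃* L3 F :=
  QuotientGroup.congr _ _ graphSL (Subgroup.characteristic_iff_map_eq.mp inferInstance graphSL)

theorem graph_uni (a b c : F) : graph (proj (uni (a, b, c))) = proj (uni (b, a, c + a * b)) := by
  show proj (graphSL (uni (a, b, c))) = _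
  congr 1
  apply Subtype.ext
  show ((uni (a, b, c))⁻¹ : SL3 F).1.transpose.submatrix Fin.revPerm Fin.revPerm = _
  rw [uni_inv]
  ext i j
  fin_cases i <;> fin_cases j <;> simp [uni, Fin.rev]

theorem map_graph_A0 : (A0 F).map graph.toMonoidHom = A1 F := by
  ext x
  constructor
  · rintro ⟨_, ⟨b, c, rfl⟩, rfl⟩
    exact ⟨b, c, by show _ = graph (proj _); rw [graph_uni]; simp⟩
  · rintro ⟨a, c, rfl⟩
    exact ⟨_, ⟨a, c, rfl⟩, by show graph (proj _) = _; rw [graph_uni]; simp⟩

theorem map_graph_A1 : (A1 F).map graph.toMonoidHom = A0 F := by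
  ext x
  constructor
  · rintro ⟨_, ⟨a, c, rfl⟩, rfl⟩
    exact ⟨a, c, by show _ = graph (proj _); rw [graph_uni]; simp⟩
  · rintro ⟨b, c, rfl⟩
    exact ⟨_, ⟨b, c, rfl⟩, by show graph (proj _) = _; rw [graph_uni]; simp⟩

theorem map_graph_U0 : (U0 F).map graph.toMonoidHom = U0 F := by
  rw [← sup_eq_U0, Subgroup.map_sup, map_graph_A0, map_graph_A1, sup_comm]

end Cfsg.Agent.Lib.PlaneCover
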