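import Cfsg.Prelude.Def_Transfer
import Cfsg.Agent.Lib.PlaneCover.Basic

/-!
# Lifting the subgroups of order sixteen to a central extension
-/

set_option autoImplicit false

namespace Cfsg.Agent.Lib.PlaneCover

open Cfsg.Agent.Lib.PGroups.UniFour

universe u v

variable {X : Type u} [Group X] [Finite X] {F : Type v} [Field F] [CharP F 2]
  (π : X →* L3 F) (hπ : Function.Surjective π)
  (hker : π.ker ≤ Subgroup.center X) (hexp : ∀ z ∈ π.ker, z ^ 2 = 1)

theorem map_normalizer_mem {H : Subgroup X} (hkerH : π.ker ≤ H) {A : Subgroup (L3 F)} (hA : H.map π = A)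
    {x : X} (hx : π x ∈ Subgroup.normalizer (A : Set (L3 F))) :
    x ∈ Subgroup.normalizer (H : Set X) := by
  rw [Subgroup.mem_normalizer_iff]
  have hH : H = A.comap π := by rw [← hA, Subgroup.comap_map_eq_self hkerH]
  intro h
  rw [hH, Subgroup.mem_comap, Subgroup.mem_comap, map_mul, map_mul, map_inv]
  exact Subgroup.mem_normalizer_iff.mp hx _

include hπ hker hexp in
theorem isElementaryAbelian [Finite F] {H : Subgroup X} (hkerH : π.ker ≤ H)
    (hA : H.map π = A0 F) (hcard : ∀ a : F, ∃ b : F, b ≠ a ∧ b ≠ 0) :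
    Cfsg.IsElementaryAbelian 2 H := by
  have hlift : ∀ b c : F, ∃ h ∈ H, π h = proj (uni (0, b, c)) := fun b c =>
    Subgroup.mem_map.mp (hA.ge ⟨b, c, rfl⟩)
  obtain ⟨x₀, hx₀, hπx₀⟩ := hlift 1 0
  set c₀ := x₀ * x₀ with hc₀
  have hsqker : ∀ h ∈ H, h * h ∈ π.ker := by
    intro h hh
    obtain ⟨b, c, hbc⟩ := hA.le ⟨h, hh, rfl⟩
    show π (h * h) = 1
    rw [map_mul, ← hbc, ← map_mul, uni_sq, zero_mul, uni_zero, map_one]
  have hc0c : c₀ ∈ Subgroup.center X := hker (hsqker x₀ hx₀)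
  have hc0sq : c₀ * c₀ = 1 := by rw [← pow_two]; exact hexp _ (hsqker x₀ hx₀)
  have hconst : ∀ h ∈ H, π h ≠ 1 → h * h = c₀ := by
    intro h hh hne
    obtain ⟨b, c, hbc⟩ := hA.le ⟨h, hh, rfl⟩
    have hbc0 : ¬ (b = 0 ∧ c = 0) := by
      rintro ⟨rfl, rfl⟩
      rw [uni_zero, map_one] at hbc
      exact hne hbc.symm
    obtain ⟨n, -, hn⟩ := exists_conj_A0 hbc0
    obtain ⟨x, rfl⟩ := hπ n
    have hzker : (x * x₀ * x⁻¹)⁻¹ * h ∈ π.ker := by
      show π _ = 1
      rw [map_mul, map_inv, map_mul, map_mul, map_inv, hπx₀, hn, hbc, inv_mul_cancel]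
    set z := (x * x₀ * x⁻¹)⁻¹ * h with hz
    have hzc := Subgroup.mem_center_iff.mp (hker hzker)
    have hh' : h = x * x₀ * x⁻¹ * z := by rw [hz, mul_inv_cancel_left]
    have hzz : z * z = 1 := by rw [← pow_two]; exact hexp _ hzker
    calc h * h = (x * x₀ * x⁻¹) * (z * (x * x₀ * x⁻¹)) * z := by rw [hh']; simp only [mul_assoc]
      _ = (x * x₀ * x⁻¹) * (x * x₀ * x⁻¹) * (z * z) := by
          rw [← hzc (x * x₀ * x⁻¹)]; simp only [mul_assoc]
      _ = x * c₀ * x⁻¹ := by rw [hzz, mul_one, hc₀]; group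
      _ = c₀ := by rw [Subgroup.mem_center_iff.mp hc0c x, mul_inv_cancel_right]
  have hcc := Subgroup.mem_center_iff.mp hc0c
  have hswap : ∀ x ∈ H, ∀ y ∈ H, π x ≠ 1 → π y ≠ 1 → π (x * y) ≠ 1 → y * x = c₀ * (x * y) := by
    intro x hx y hy h1 h2 h3
    have ex := hconst x hx h1
    have ey := hconst y hy h2
    have exy := hconst _ (mul_mem hx hy) h3
    calc y * x = x⁻¹ * ((x * y) * (x * y)) * y⁻¹ := by group
      _ = x⁻¹ * c₀ * y⁻¹ := by rw [exy]
      _ = c₀ * (x⁻¹ * y⁻¹) := by rw [hcc x⁻¹, mul_assoc]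
      _ = c₀ * ((x * c₀⁻¹) * (y * c₀⁻¹)) := by
          rw [show x⁻¹ = x * c₀⁻¹ by rw [← ex]; group, show y⁻¹ = y * c₀⁻¹ by rw [← ey]; group]
      _ = c₀ * (x * y * (c₀⁻¹ * c₀⁻¹)) := by
          rw [show x * c₀⁻¹ * (y * c₀⁻¹) = x * (c₀⁻¹ * y) * c₀⁻¹ by group,
            ← Subgroup.mem_center_iff.mp (inv_mem hc0c) y]
          group
      _ = c₀ * (x * y) := by rw [← mul_inv_rev, hc0sq, inv_one, mul_one]
  obtain ⟨w, hw1, hw0⟩ := hcard 1
  obtain ⟨y₀, hy₀, hπy⟩ := hlift 0 1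
  obtain ⟨z₀, hz₀, hπz⟩ := hlift w 0
  have hne : ∀ b c : F, ¬ (b = 0 ∧ c = 0) → proj (uni (0, b, c)) ≠ (1 : L3 F) := by
    intro b c h e
    rw [← map_one (proj (F := F)), ← uni_zero] at e
    have := uni_inj e
    simp at this
    exact h this
  have px : π x₀ ≠ 1 := hπx₀ ▸ hne 1 0 (by simp)
  have py : π y₀ ≠ 1 := hπy ▸ hne 0 1 (by simp)
  have pz : π z₀ ≠ 1 := hπz ▸ hne w 0 (by simp [hw0])
  have pxy : π (x₀ * y₀) ≠ 1 := by
    rw [map_mul, hπx₀, hπy, ← map_mul, uni_mul]; simpa using hne 1 1 (by simp)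
  have pxz : π (x₀ * z₀) ≠ 1 := by
    rw [map_mul, hπx₀, hπz, ← map_mul, uni_mul]
    have h1w : ¬ (1 + w = 0) := fun e => hw1 (by
      linear_combination e - (1 : F) * (two_zero (F := F)))
    simpa using hne (1 + w) 0 (by simp [h1w])
  have pyz : π (y₀ * z₀) ≠ 1 := by
    rw [map_mul, hπy, hπz, ← map_mul, uni_mul]; simpa using hne w 1 (by simp)
  have pxyz : π (x₀ * y₀ * z₀) ≠ 1 := by
    rw [map_mul, map_mul, hπx₀, hπy, hπz, ← map_mul, uni_mul, ← map_mul, uni_mul]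
    simpa using hne (1 + w) 1 (by simp)
  have e1 := hswap (x₀ * y₀) (mul_mem hx₀ hy₀) z₀ hz₀ pxy pz pxyz
  have e2 := hswap x₀ hx₀ z₀ hz₀ px pz pxz
  have e3 := hswap y₀ hy₀ z₀ hz₀ py pz pyz
  have hc1 : c₀ = 1 := by
    have h4 : z₀ * (x₀ * y₀) = x₀ * y₀ * z₀ := by
      calc z₀ * (x₀ * y₀) = (z₀ * x₀) * y₀ := by group
        _ = c₀ * (x₀ * z₀) * y₀ := by rw [e2]
        _ = c₀ * (x₀ * (z₀ * y₀)) := by group
        _ = c₀ * ((x₀ * c₀) * (y₀ * z₀)) := by rw [e3]; group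
        _ = (c₀ * c₀) * (x₀ * y₀ * z₀) := by rw [hcc x₀]; group
        _ = x₀ * y₀ * z₀ := by rw [hc0sq, one_mul]
    rw [e1] at h4
    exact mul_eq_right.mp h4
  have hsq : ∀ h ∈ H, h * h = 1 := by
    intro h hh
    by_cases h1 : π h = 1
    · rw [← pow_two]; exact hexp h h1
    · rw [hconst h hh h1, hc1]
  refine ⟨⟨⟨fun a b => Subtype.ext ?_⟩⟩, fun a ha => by rw [pow_two]; exact hsq a ha⟩
  have hi : ∀ h ∈ H, h⁻¹ = h := fun h hh => inv_eq_of_mul_eq_one_right (hsq h hh)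
  show (a : X) * b = b * a
  rw [← hi _ (mul_mem b.2 a.2), mul_inv_rev, hi _ a.2, hi _ b.2]

omit [Finite X] in
/-- A subgroup of an elementary abelian two-group has a complement. -/
theorem exists_compl_of_sq [Finite X] {K M : Subgroup X} (hK : Cfsg.IsElementaryAbelian 2 K) (hMK : M ≤ K) :
    ∃ D : Subgroup X, D ≤ K ∧ D ⊓ M = ⊥ ∧ M ⊔ D = K := by
  classical
  obtain ⟨D, hD⟩ := Set.Finite.exists_maximal (Set.toFinite {D : Subgroup X | D ≤ K ∧ D ⊓ M = ⊥})
    ⟨⊥, bot_le, bot_inf_eq M⟩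
  obtain ⟨⟨hDK, hDM⟩, hmax⟩ := hD
  refine ⟨D, hDK, hDM, le_antisymm (sup_le hMK hDK) fun x hx => ?_⟩
  by_contra hxn
  have hle : D ⊔ Subgroup.zpowers x ≤ K := sup_le hDK (Subgroup.zpowers_le.mpr hx)
  have hbot : (D ⊔ Subgroup.zpowers x) ⊓ M = ⊥ := by
    rw [eq_bot_iff]
    rintro m ⟨hm, hmM⟩
    let S : Subgroup X :=
      { carrier := {y | y ∈ K ∧ (y ∈ D ∨ x⁻¹ * y ∈ D)}
        one_mem' := ⟨one_mem _, Or.inl (one_mem _)⟩
        mul_mem' := fun {a b} ha hb => ⟨mul_mem ha.1 hb.1, by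
          have hc : ∀ u ∈ K, ∀ v ∈ K, u * v = v * u := fun u hu v hv =>
            congrArg Subtype.val (hK.1.is_comm.comm ⟨u, hu⟩ ⟨v, hv⟩)
          have hxx : x⁻¹ = x := inv_eq_of_mul_eq_one_right (by rw [← pow_two]; exact hK.2 x hx)
          rcases ha.2 with h | h <;> rcases hb.2 with h' | h'
          · exact Or.inl (mul_mem h h')
          · refine Or.inr ?_
            rw [← mul_assoc, hc x⁻¹ (inv_mem hx) a ha.1, mul_assoc]
            exact mul_mem h h'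
          · refine Or.inr ?_
            rw [← mul_assoc]
            exact mul_mem h h'
          · refine Or.inl ?_
            have := mul_mem h h'
            rwa [show x⁻¹ * a * (x⁻¹ * b) = (x⁻¹ * x⁻¹) * (a * b) by
              rw [mul_assoc, ← mul_assoc a, hc a ha.1 x⁻¹ (inv_mem hx)]; group,
              hxx, show x * x = 1 by rw [← pow_two]; exact hK.2 x hx, one_mul] at this⟩
        inv_mem' := fun {a} ha => by
          have : a⁻¹ = a := inv_eq_of_mul_eq_one_right (by rw [← pow_two]; exact hK.2 a ha.1)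
          rwa [this] }
    have hsup : D ⊔ Subgroup.zpowers x ≤ S := sup_le (fun d hd => ⟨hDK hd, Or.inl hd⟩)
      (Subgroup.zpowers_le.mpr ⟨hx, Or.inr (by simp)⟩)
    rcases (hsup hm).2 with h | h
    · exact hDM.le ⟨h, hmM⟩
    · exfalso
      apply hxn
      have hxeq : x = m * (x⁻¹ * m)⁻¹ := by group
      rw [hxeq]
      exact mul_mem (Subgroup.mem_sup_left hmM) (Subgroup.mem_sup_right (inv_mem h))
  exact hxn (Subgroup.mem_sup_right (hmax ⟨hle, hbot⟩ le_sup_left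
    (Subgroup.mem_sup_right (Subgroup.mem_zpowers x))))

include hπ in
/-- The normaliser splits. -/
theorem exists_complement [Fintype F] (hF : Fintype.card F = 4) (T : Sylow 2 X)
    {H K : Subgroup X} (hkerH : π.ker ≤ H) (hkerK : π.ker ≤ K) (hA : H.map π = A0 F)
    (hB : K.map π = A1 F) (hH : Cfsg.IsElementaryAbelian 2 H) (hK : Cfsg.IsElementaryAbelian 2 K)
    (hT : (T : Subgroup X).map π = U0 F) (hkerT : π.ker ≤ (T : Subgroup X)) :
    ∃ C : Subgroup X, C ≤ Subgroup.normalizer (H : Set X) ∧ C ⊓ H = ⊥ ∧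
      H ⊔ C = Subgroup.normalizer (H : Set X) ∧
      Nonempty (↥C ≃* Matrix.ProjectiveSpecialLinearGroup (Fin 2) F) := by
  haveI : Fact (Nat.Prime 2) := ⟨Nat.prime_two⟩
  set N := Subgroup.normalizer (H : Set X) with hN
  have hHN : H ≤ N := Subgroup.le_normalizer
  have hHK : H ⊔ K = (T : Subgroup X) := by
    rw [← Subgroup.comap_map_eq_self (hkerH.trans (le_sup_left : H ≤ H ⊔ K)), Subgroup.map_sup, hA,
      hB, sup_eq_U0, ← hT, Subgroup.comap_map_eq_self hkerT]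
  have hU0N : U0 F ≤ Subgroup.normalizer (A0 F : Set (L3 F)) := by
    rintro _ ⟨⟨a, b, c⟩, rfl⟩
    exact (proj_mem_normalizer_iff _).mpr ⟨by simp [coe_uni], by simp [coe_uni]⟩
  have hTN : (T : Subgroup X) ≤ N := fun t ht =>
    map_normalizer_mem π hkerH hA (hU0N (hT.le ⟨t, ht, rfl⟩))
  obtain ⟨D, hDK, hDM, hDsup⟩ := exists_compl_of_sq hK (inf_le_right : H ⊓ K ≤ K)
  have hDH : D ⊓ H = ⊥ := le_antisymm (fun d hd => hDM.le ⟨hd.1, hd.2, hDK hd.1⟩) bot_le
  have hHD : H ⊔ D = (T : Subgroup X) := by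
    rw [← hHK, ← hDsup, ← sup_assoc, sup_inf_self]
  haveI : (H.subgroupOf N).Normal := Subgroup.normal_in_normalizer
  haveI : IsMulCommutative (H.subgroupOf N) := ⟨⟨fun a b => Subtype.ext (Subtype.ext
    (show ((a : N) : X) * ((b : N) : X) = ((b : N) : X) * ((a : N) : X) from
      congrArg Subtype.val (hH.1.is_comm.comm (⟨_, a.2⟩ : H) (⟨_, b.2⟩ : H))))⟩⟩
  have hcop : (Nat.card (H.subgroupOf N)).Coprime ((T : Subgroup X).subgroupOf N).index := by
    have hHp : IsPGroup 2 ↥H := fun a => ⟨1, Subtype.ext (by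
      rw [SubmonoidClass.coe_pow, pow_one]; exact hH.2 a a.2)⟩
    obtain ⟨k, hk⟩ := IsPGroup.iff_card.mp hHp
    rw [Nat.card_congr (Subgroup.subgroupOfEquivOfLe hHN).toEquiv, hk]
    refine Nat.Coprime.pow_left k (Nat.prime_two.coprime_iff_not_dvd.mpr fun hdvd => ?_)
    exact T.not_dvd_index (hdvd.trans (Subgroup.relIndex_dvd_index_of_le hTN))
  obtain ⟨C', hC'⟩ := Solvable.exists_complement_of_coprime_index (K := H.subgroupOf N)
    (U := (T : Subgroup X).subgroupOf N) (A := D.subgroupOf N)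
    (Subgroup.comap_mono (hHD ▸ le_sup_left)) hcop (Subgroup.comap_mono (hHD ▸ le_sup_right))
    (by
      rw [eq_bot_iff]
      rintro d ⟨h1, h2⟩
      exact Subtype.ext (hDH.le ⟨h1, h2⟩ : (d : X) ∈ (⊥ : Subgroup X)))
    (by
      rw [← Subgroup.subgroupOf_sup hHN ((hHD ▸ le_sup_right : D ≤ (T : Subgroup X)).trans hTN), hHD])
  refine ⟨C'.map N.subtype, Subgroup.map_subtype_le _, ?_, ?_, ?_⟩
  · rw [eq_bot_iff]
    rintro _ ⟨⟨c, hc, rfl⟩, hcH⟩
    have : c ∈ (⊥ : Subgroup N) := hC'.disjoint.le_bot ⟨hcH, hc⟩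
    rw [Subgroup.mem_bot] at this
    simp [this]
  · have h1 : (H.subgroupOf N ⊔ C').map N.subtype = N := by
      rw [hC'.sup_eq_top, ← MonoidHom.range_eq_map, Subgroup.range_subtype]
    rwa [Subgroup.map_sup, Subgroup.map_subgroupOf_eq_of_le hHN] at h1
  · obtain ⟨φ, hφs, hφk⟩ := exists_normalizerHom (F := F) hF
    have hmem : ∀ c : ↥C', π ((c : N) : X) ∈ Subgroup.normalizer (A0 F : Set (L3 F)) := by
      intro c
      rw [← hA]
      exact Subgroup.le_normalizer_map π ⟨_, (c : N).2, rfl⟩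
    let ξ : ↥C' →* ↥(Subgroup.normalizer (A0 F : Set (L3 F))) :=
      ((π.comp N.subtype).comp C'.subtype).codRestrict _ hmem
    have hcomap : H = (A0 F).comap π := by rw [← hA, Subgroup.comap_map_eq_self hkerH]
    have hbij : Function.Bijective (φ.comp ξ) := by
      constructor
      · rw [← MonoidHom.ker_eq_bot_iff, eq_bot_iff]
        intro c hc
        have h1 : ((c : N) : X) ∈ H := by rw [hcomap]; exact (hφk _).mp hc
        exact Subtype.ext (hC'.disjoint.le_bot ⟨h1, c.2⟩ : (c : N) ∈ (⊥ : Subgroup N))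
      · intro y
        obtain ⟨n, rfl⟩ := hφs y
        obtain ⟨x, hx⟩ := hπ (n : L3 F)
        have hxN : x ∈ N := map_normalizer_mem π hkerH hA (hx ▸ n.2)
        obtain ⟨⟨⟨h, hh⟩, c⟩, hhc⟩ := hC'.2 ⟨x, hxN⟩
        refine ⟨c, ?_⟩
        have hπh : φ ⟨π (h : X), hA ▸ Subgroup.le_normalizer_map π ⟨_, h.2, rfl⟩⟩ = 1 :=
          (hφk _).mpr (by have : (h : X) ∈ H := hh; rw [hcomap] at this; exact this)
        have hn : n = ⟨π (h : X), hA ▸ Subgroup.le_normalizer_map π ⟨_, h.2, rfl⟩⟩ * ξ c := by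
          apply Subtype.ext
          show (n : L3 F) = π (h : X) * π ((c : N) : X)
          rw [← hx, ← map_mul]
          congr 1
          exact (congrArg Subtype.val hhc).symm
        rw [hn, map_mul, hπh, one_mul]
        rfl
    exact ⟨(C'.equivMapOfInjective _ N.subtype_injective).symm.trans
      (MulEquiv.ofBijective (φ.comp ξ) hbij)⟩

end Cfsg.Agent.Lib.PlaneCover
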